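import Mathlib.RingTheory.Length
import Mathlib.Algebra.Module.Injective
import Mathlib.RingTheory.Artinian.Ring
import Mathlib.RingTheory.Artinian.Module
import Mathlib.RingTheory.HopkinsLevitzki
import Mathlib.RingTheory.SimpleModule.Basic
import Mathlib.LinearAlgebra.BilinearMap

/-!
# Self-injective artinian rings

An artinian ring `A` with a nonzero element lying in every nonzero ideal is injective as a module
over itself.
-/

set_option autoImplicit false
universe u v

namespace K762.SelfInj

variable {A : Type u} [CommRing A]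

lemma length_hom_simple_le (r : A) (hr : r ≠ 0) (h : ∀ I : Ideal A, I ≠ ⊥ → r ∈ I)
    (S : Type v) [AddCommGroup S] [Module A S] [IsSimpleModule A S] :
    Module.length A (S →ₗ[A] A) ≤ 1 := by
  by_cases hall : ∀ f : S →ₗ[A] A, f = 0
  · have : Subsingleton (S →ₗ[A] A) := ⟨fun f g => by rw [hall f, hall g]⟩
    simp [Module.length_eq_zero]
  push Not at hall
  obtain ⟨f0, hf0⟩ := hall
  have hnt : Nontrivial S := IsSimpleModule.nontrivial A S
  obtain ⟨s, hs⟩ := exists_ne (0 : S)
  have hker : ∀ f : S →ₗ[A] A, f ≠ 0 → LinearMap.ker f = ⊥ := by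
    intro f hf
    rcases eq_bot_or_eq_top (LinearMap.ker f) with h1 | h1
    · exact h1
    · exact absurd (LinearMap.ker_eq_top.mp h1) hf
  have hrange : ∀ f : S →ₗ[A] A, f ≠ 0 → LinearMap.range f ≤ LinearMap.range f0 := by
    intro f hf
    have h1 : r ∈ LinearMap.range f := h _ (by
      intro h2; exact hf (LinearMap.range_eq_bot.mp h2))
    have h2 : r ∈ LinearMap.range f0 := h _ (by
      intro h2; exact hf0 (LinearMap.range_eq_bot.mp h2))
    obtain ⟨y, hy⟩ := h1
    have h3 : Submodule.comap f (LinearMap.range f0) = ⊤ := by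
      rcases eq_bot_or_eq_top (Submodule.comap f (LinearMap.range f0)) with h4 | h4
      · exfalso
        have h5 : y ∈ Submodule.comap f (LinearMap.range f0) := by
          rw [Submodule.mem_comap, hy]; exact h2
        rw [h4, Submodule.mem_bot] at h5
        rw [h5, map_zero] at hy
        exact hr hy.symm
      · exact h4
    rintro _ ⟨z, rfl⟩
    have : z ∈ Submodule.comap f (LinearMap.range f0) := by rw [h3]; trivial
    exact this
  have hmem : ∀ f : S →ₗ[A] A, LinearMap.applyₗ s f ∈ LinearMap.range f0 := by
    intro f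
    by_cases hf : f = 0
    · subst hf; simp
    · exact hrange f hf ⟨s, rfl⟩
  let ev : (S →ₗ[A] A) →ₗ[A] LinearMap.range f0 := (LinearMap.applyₗ s).codRestrict _ hmem
  have hinj : Function.Injective ev := by
    rw [← LinearMap.ker_eq_bot, eq_bot_iff]
    intro f hf
    rw [LinearMap.mem_ker] at hf
    have h1 : f s = 0 := congrArg Subtype.val hf
    by_contra h2
    have h3 := hker f h2
    have : s ∈ LinearMap.ker f := h1
    rw [h3] at this
    exact hs this
  refine (Module.length_le_of_injective ev hinj).trans ?_
  have e : S ≃ₗ[A] LinearMap.range f0 := LinearEquiv.ofInjective f0 (LinearMap.ker_eq_bot.mp (hker f0 hf0))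
  rw [← e.length_eq, Module.length_eq_one]

lemma length_hom_le (r : A) (hr : r ≠ 0) (h : ∀ I : Ideal A, I ≠ ⊥ → r ∈ I)
    (M : Type v) [AddCommGroup M] [Module A M] (hM : IsFiniteLength A M) :
    Module.length A (M →ₗ[A] A) ≤ Module.length A M := by
  induction hM with
  | @of_subsingleton M _ _ _ =>
    have : Subsingleton (M →ₗ[A] A) := inferInstance
    simp [Module.length_eq_zero]
  | @of_simple_quotient M _ _ N _ hN ih =>
    let f : (M ⧸ N →ₗ[A] A) →ₗ[A] (M →ₗ[A] A) := LinearMap.lcomp A A N.mkQ
    let g : (M →ₗ[A] A) →ₗ[A] (N →ₗ[A] A) := LinearMap.lcomp A A N.subtype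
    have hf : Function.Injective f := by
      intro a b hab
      refine LinearMap.ext fun x => ?_
      obtain ⟨y, rfl⟩ := N.mkQ_surjective x
      exact congrArg (fun t : M →ₗ[A] A => t y) hab
    let g' : (M →ₗ[A] A) →ₗ[A] LinearMap.range g := g.rangeRestrict
    have hex : Function.Exact f g' := by
      intro a
      constructor
      · intro ha
        have h1 : g a = 0 := congrArg Subtype.val ha
        have hle : N ≤ LinearMap.ker a := fun x hx =>
          congrArg (fun t : N →ₗ[A] A => t ⟨x, hx⟩) h1
        exact ⟨N.liftQ a hle, N.liftQ_mkQ a hle⟩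
      · rintro ⟨b, rfl⟩
        apply Subtype.ext
        refine LinearMap.ext fun x => ?_
        have : N.mkQ x.1 = 0 := (Submodule.Quotient.mk_eq_zero N).mpr x.2
        change b (N.mkQ x.1) = 0
        rw [this, map_zero]
    have h1 : Module.length A (M →ₗ[A] A) =
        Module.length A (M ⧸ N →ₗ[A] A) + Module.length A (LinearMap.range g) :=
      Module.length_eq_add_of_exact f g' hf (LinearMap.surjective_rangeRestrict g) hex
    have h2 := Module.length_eq_add_of_exact N.subtype N.mkQ N.subtype_injective N.mkQ_surjective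
      (LinearMap.exact_subtype_mkQ N)
    rw [h1, h2, Module.length_eq_one A (M ⧸ N), add_comm]
    refine add_le_add ?_ (length_hom_simple_le r hr h _)
    exact (Module.length_le_of_injective (LinearMap.range g).subtype
      (LinearMap.range g).subtype_injective).trans ih

/-- An artinian ring with a nonzero element lying in every nonzero ideal is self-injective. -/
theorem injective_self [IsArtinianRing A] (r : A) (hr : r ≠ 0)
    (h : ∀ I : Ideal A, I ≠ ⊥ → r ∈ I) : Module.Injective A A := by
  refine Module.Baer.injective ?_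
  rw [Module.Baer.iff_surjective]
  intro I
  have hfl : ∀ (M : Type u) [AddCommGroup M] [Module A M] [Module.Finite A M],
      IsFiniteLength A M := fun M _ _ _ =>
    isFiniteLength_iff_isNoetherian_isArtinian.mpr ⟨inferInstance, inferInstance⟩
  let f : (A ⧸ I →ₗ[A] A) →ₗ[A] (A →ₗ[A] A) := LinearMap.lcomp A A I.mkQ
  let g : (A →ₗ[A] A) →ₗ[A] (I →ₗ[A] A) := LinearMap.lcomp A A I.subtype
  change Function.Surjective g
  have hf : Function.Injective f := by
    intro a b hab
    refine LinearMap.ext fun x => ?_
    obtain ⟨y, rfl⟩ := I.mkQ_surjective x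
    exact congrArg (fun t : A →ₗ[A] A => t y) hab
  let g' : (A →ₗ[A] A) →ₗ[A] LinearMap.range g := g.rangeRestrict
  have hex : Function.Exact f g' := by
    intro a
    constructor
    · intro ha
      have h1 : g a = 0 := congrArg Subtype.val ha
      have hle : I ≤ LinearMap.ker a := fun x hx =>
        congrArg (fun t : I →ₗ[A] A => t ⟨x, hx⟩) h1
      exact ⟨I.liftQ a hle, I.liftQ_mkQ a hle⟩
    · rintro ⟨b, rfl⟩
      apply Subtype.ext
      refine LinearMap.ext fun x => ?_
      have : I.mkQ x.1 = 0 := (Submodule.Quotient.mk_eq_zero I).mpr x.2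
      change b (I.mkQ x.1) = 0
      rw [this, map_zero]
  have h1 : Module.length A (A →ₗ[A] A) =
      Module.length A (A ⧸ I →ₗ[A] A) + Module.length A (LinearMap.range g) :=
    Module.length_eq_add_of_exact f g' hf (LinearMap.surjective_rangeRestrict g) hex
  have h2 := Module.length_eq_add_of_exact I.subtype I.mkQ I.subtype_injective I.mkQ_surjective
    (LinearMap.exact_subtype_mkQ I)
  have h3 : Module.length A (A →ₗ[A] A) = Module.length A A :=
    (LinearMap.ringLmapEquivSelf A A A).length_eq
  have h4 : Module.length A (A ⧸ I →ₗ[A] A) ≤ Module.length A (A ⧸ I) :=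
    length_hom_le r hr h _ (hfl _)
  have h5 : Module.length A (I →ₗ[A] A) ≤ Module.length A I :=
    length_hom_le r hr h _ (hfl _)
  have fI : Module.length A I ≠ ⊤ := Module.length_ne_top
  have fQ : Module.length A (A ⧸ I) ≠ ⊤ := Module.length_ne_top
  have fH : Module.length A (I →ₗ[A] A) ≠ ⊤ := ne_top_of_le_ne_top fI h5
  have hfin := Module.length_ne_top_iff.mp fH
  rw [isFiniteLength_iff_isNoetherian_isArtinian] at hfin
  have := hfin.1
  have := hfin.2
  have h6 : Module.length A (LinearMap.range g) ≤ Module.length A (I →ₗ[A] A) :=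
    Module.length_le_of_injective (LinearMap.range g).subtype (LinearMap.range g).subtype_injective
  rw [← LinearMap.range_eq_top]
  by_contra hne
  have h7 := Submodule.length_lt hne
  rw [h3] at h1
  rw [h1] at h2
  have h8 : Module.length A (A ⧸ I →ₗ[A] A) + Module.length A (LinearMap.range g) <
      Module.length A I + Module.length A (A ⧸ I) := by
    rw [add_comm (Module.length A I)]
    refine ENat.add_lt_add_of_le_of_lt (ne_top_of_le_ne_top fQ h4) h4 (h7.trans_le h5)
  exact absurd h2 h8.ne

end K762.SelfInj
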