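import Groth.Agent.DelIll.K762.FreeAt
import Groth.Agent.DelIll.K762.SelfInj
import Mathlib.RingTheory.LocalProperties.Projective
import Mathlib.RingTheory.Filtration
import Mathlib.RingTheory.Localization.Integer
import Mathlib.RingTheory.Localization.AtPrime.Basic
import Mathlib.RingTheory.Localization.Module
import Mathlib.RingTheory.Localization.BaseChange
import Mathlib.RingTheory.Localization.Submodule
import Mathlib.RingTheory.Ideal.Quotient.Noetherian

/-!
# Projectivity is detected on the self-injective artinian local quotients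
-/

set_option autoImplicit false
set_option linter.style.haveILetI false
set_option linter.dupNamespace false
universe u

open scoped TensorProduct

namespace K762.GorCrit

open K762.FreeAt

variable {R : Type u} [CommRing R] [IsNoetherianRing R]

/-- An element not in `𝔪^n` is not in some `q ⊇ 𝔪^n` with `R/q` self-injective. -/
lemma exists_gor (𝔪 : Ideal R) [h𝔪 : 𝔪.IsMaximal] (r : R) (n : ℕ) (hr : r ∉ 𝔪 ^ n) :
    ∃ q : Ideal R, 𝔪 ^ n ≤ q ∧ r ∉ q ∧ q ≤ 𝔪 ∧
      ∃ (_ : IsLocalRing (R ⧸ q)), IsArtinianRing (R ⧸ q) ∧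
      Module.Injective (R ⧸ q) (R ⧸ q) := by
  obtain ⟨q, ⟨hq1, hq2⟩, hmax⟩ := set_has_maximal_iff_noetherian.mpr
    (inferInstanceAs (IsNoetherian R R)) {q : Ideal R | 𝔪 ^ n ≤ q ∧ r ∉ q} ⟨𝔪 ^ n, le_rfl, hr⟩
  have hqtop : q ≠ ⊤ := by
    rintro rfl
    exact hq2 trivial
  have hn : ∀ M : Ideal R, M.IsMaximal → q ≤ M → M = 𝔪 := by
    intro M hM hqM
    have h1 : 𝔪 ≤ M := Ideal.IsPrime.le_of_pow_le (hP := hM.isPrime) (hq1.trans hqM)
    exact (h𝔪.eq_of_le hM.ne_top h1).symm
  have hqm : q ≤ 𝔪 := by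
    obtain ⟨M, hM, hqM⟩ := Ideal.exists_le_maximal q hqtop
    rw [← hn M hM hqM]
    exact hqM
  haveI : Nontrivial (R ⧸ q) := Ideal.Quotient.nontrivial_iff.mpr hqtop
  have hcomap : ∀ M : Ideal (R ⧸ q), M.IsMaximal → M.comap (Ideal.Quotient.mk q) = 𝔪 := by
    intro M hM
    refine hn _ (Ideal.comap_isMaximal_of_surjective _ Ideal.Quotient.mk_surjective) ?_
    intro x hx
    rw [Ideal.mem_comap, Ideal.Quotient.eq_zero_iff_mem.mpr hx]
    exact zero_mem _
  have hloc : IsLocalRing (R ⧸ q) := by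
    obtain ⟨M, hM⟩ := Ideal.exists_maximal (R ⧸ q)
    refine IsLocalRing.of_unique_max_ideal ⟨M, hM, fun M' hM' => ?_⟩
    refine Ideal.comap_injective_of_surjective _ Ideal.Quotient.mk_surjective ?_
    rw [hcomap M hM, hcomap M' hM']
  have hart : IsArtinianRing (R ⧸ q) := by
    rw [isArtinianRing_iff_isNilpotent_maximalIdeal]
    refine ⟨n, ?_⟩
    have h1 := hcomap _ (IsLocalRing.maximalIdeal.isMaximal (R ⧸ q))
    rw [← Ideal.map_comap_of_surjective _ Ideal.Quotient.mk_surjective
      (IsLocalRing.maximalIdeal (R ⧸ q)), h1, ← Ideal.map_pow]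
    have h2 : Ideal.map (Ideal.Quotient.mk q) (𝔪 ^ n) ≤ Ideal.map (Ideal.Quotient.mk q) q :=
      Ideal.map_mono hq1
    rw [Ideal.map_quotient_self] at h2
    exact le_bot_iff.mp h2
  refine ⟨q, hq1, hq2, hqm, hloc, hart, ?_⟩
  refine K762.SelfInj.injective_self (Ideal.Quotient.mk q r) ?_ ?_
  · rw [Ne, Ideal.Quotient.eq_zero_iff_mem]
    exact hq2
  · intro I hI
    by_contra hrI
    have h1 : q ≤ I.comap (Ideal.Quotient.mk q) := by
      intro x hx
      rw [Ideal.mem_comap, Ideal.Quotient.eq_zero_iff_mem.mpr hx]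
      exact zero_mem _
    have h2 : ¬ q < I.comap (Ideal.Quotient.mk q) :=
      hmax (I.comap (Ideal.Quotient.mk q)) ⟨hq1.trans h1, hrI⟩
    have h3 : q = I.comap (Ideal.Quotient.mk q) := by
      by_contra h4
      exact h2 (lt_of_le_of_ne h1 h4)
    apply hI
    rw [← Ideal.map_comap_of_surjective _ Ideal.Quotient.mk_surjective I, ← h3,
      Ideal.map_quotient_self]

omit [IsNoetherianRing R] in
lemma algebraMap_eq_zero_of_sum {A : Type u} [CommRing A] [Algebra R A] {W : Type u}
    [AddCommGroup W] [Module R W] {w : ℕ} (x : Fin w → W) (hin : Function.Injective (lin R A x))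
    (r : Fin w → R) (hr : (∑ i, r i • x i) = 0) (i : Fin w) : algebraMap R A (r i) = 0 := by
  have h7 : lin R A x (fun i => algebraMap R A (r i)) = 0 := by
    rw [lin, Fintype.linearCombination_apply]
    have h8 : (1 : A) ⊗ₜ[R] (∑ i, r i • x i) = 0 := by rw [hr, TensorProduct.tmul_zero]
    rw [TensorProduct.tmul_sum] at h8
    refine Eq.trans (Finset.sum_congr rfl fun i _ => ?_) h8
    rw [TensorProduct.tmul_smul, algebraMap_smul]
  have h9 : (fun i => algebraMap R A (r i)) = 0 := hin (by rw [h7, map_zero])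
  exact congrFun h9 i

/-- A finite module over a noetherian ring which becomes free over all self-injective artinian
local quotients is projective. -/
theorem projective_of_gor (W : Type u) [AddCommGroup W] [Module R W] [Module.Finite R W]
    (h : ∀ (q : Ideal R) (_ : IsLocalRing (R ⧸ q)), IsArtinianRing (R ⧸ q) →
      Module.Injective (R ⧸ q) (R ⧸ q) → ∃ w, FreeAt W (Ideal.Quotient.mk q) w) :
    Module.Projective R W := by
  haveI : Module.FinitePresentation R W := Module.finitePresentation_of_finite R W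
  refine Module.projective_of_localization_maximal' (fun 𝔪 _ => Localization.AtPrime 𝔪)
    (fun 𝔪 _ => Localization.AtPrime 𝔪 ⊗[R] W)
    (fun 𝔪 _ => TensorProduct.mk R (Localization.AtPrime 𝔪) W 1) ?_
  intro 𝔪 h𝔪
  letI := Ideal.Quotient.field 𝔪
  obtain ⟨w, x, hw, hx⟩ := exists_family (W := W) (Ideal.Quotient.mk 𝔪)
    Ideal.Quotient.mk_surjective
  rw [Ideal.mk_ker] at hx
  let Rm := Localization.AtPrime 𝔪
  haveI : IsNoetherianRing Rm :=
    IsLocalization.isNoetherianRing 𝔪.primeCompl (Localization.AtPrime 𝔪) inferInstance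
  have hsurj : Function.Surjective (lin R Rm x) := by
    refine lin_surjective 𝔪 x hx ?_
    intro r hr
    exact (IsLocalization.AtPrime.to_map_mem_maximal_iff Rm 𝔪 r).mpr hr
  -- injectivity modulo all `q`
  have key : ∀ r : Fin w → R, (∑ i, r i • x i) = 0 → ∀ i, algebraMap R Rm (r i) = 0 := by
    intro r hr i
    by_contra hne
    have h1 : (⨅ n : ℕ, (IsLocalRing.maximalIdeal Rm) ^ n) = ⊥ :=
      Ideal.iInf_pow_eq_bot_of_isLocalRing _ (IsLocalRing.maximalIdeal.isMaximal Rm).ne_top
    have h2 : ∃ n : ℕ, r i ∉ 𝔪 ^ n := by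
      by_contra hall
      push Not at hall
      apply hne
      rw [← Ideal.mem_bot, ← h1, Ideal.mem_iInf]
      intro n
      have h3 : algebraMap R Rm (r i) ∈ (𝔪 ^ n).map (algebraMap R Rm) :=
        Ideal.mem_map_of_mem _ (hall n)
      rw [Ideal.map_pow, Localization.AtPrime.map_eq_maximalIdeal] at h3
      exact h3
    obtain ⟨n, hn⟩ := h2
    obtain ⟨q, hq1, hq2, hqm, hloc, hart, hinj⟩ := exists_gor 𝔪 (r i) n hn
    obtain ⟨w', hw'⟩ := h q hloc hart hinj
    have hcomp : (Ideal.Quotient.factor hqm).comp (Ideal.Quotient.mk q) = Ideal.Quotient.mk 𝔪 :=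
      Ideal.Quotient.factor_comp_mk hqm
    have hww : w' = w := by
      have h4 := hw'.comp (Ideal.Quotient.factor hqm)
      rw [hcomp] at h4
      exact h4.unique hw
    subst hww
    have hl := hw'.len
    letI := (Ideal.Quotient.mk q).toAlgebra
    have hmem : ∀ s ∈ 𝔪, algebraMap R (R ⧸ q) s ∈ IsLocalRing.maximalIdeal (R ⧸ q) := by
      intro s hs
      rw [IsLocalRing.mem_maximalIdeal, mem_nonunits_iff]
      intro hu
      have h5 := hu.map (Ideal.Quotient.factor hqm)
      have h6 : Ideal.Quotient.factor hqm (algebraMap R (R ⧸ q) s) = Ideal.Quotient.mk 𝔪 s :=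
        congrArg (fun t => t s) hcomp
      rw [h6, Ideal.Quotient.eq_zero_iff_mem.mpr hs] at h5
      exact not_isUnit_zero h5
    have hin := lin_injective_of_len (A := R ⧸ q) 𝔪 x hx hmem hl
    have h10 : Ideal.Quotient.mk q (r i) = 0 := algebraMap_eq_zero_of_sum x hin r hr i
    exact hq2 (Ideal.Quotient.eq_zero_iff_mem.mp h10)
  have hinj : Function.Injective (lin R Rm x) := by
    rw [← LinearMap.ker_eq_bot, eq_bot_iff]
    intro c hc
    rw [LinearMap.mem_ker] at hc
    obtain ⟨s, hs⟩ := IsLocalization.exist_integer_multiples_of_finite 𝔪.primeCompl c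
    choose r hr using hs
    have h1 : (1 : Rm) ⊗ₜ[R] (∑ i, r i • x i) = 0 := by
      have h2 : (s : R) • lin R Rm x c = 0 := by rw [hc, smul_zero]
      rw [← h2, lin, Fintype.linearCombination_apply, Finset.smul_sum, TensorProduct.tmul_sum]
      refine Finset.sum_congr rfl fun i _ => ?_
      rw [TensorProduct.tmul_smul, ← algebraMap_smul Rm (r i), hr i, smul_assoc]
    have h3 : ∃ t : 𝔪.primeCompl, t • (∑ i, r i • x i) = 0 :=
      (IsLocalizedModule.eq_zero_iff 𝔪.primeCompl
        (TensorProduct.mk R (Localization.AtPrime 𝔪) W 1)).mp h1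
    obtain ⟨t, ht⟩ := h3
    have h4 : ∑ i, (t.1 * r i) • x i = 0 := by
      rw [← ht, Finset.smul_sum]
      refine Finset.sum_congr rfl fun i _ => ?_
      rw [mul_smul]
      rfl
    rw [Submodule.mem_bot]
    funext i
    have h5 := key _ h4 i
    rw [map_mul, hr i] at h5
    have h6 : IsUnit (algebraMap R Rm t.1) := IsLocalization.map_units Rm t
    have h7 := (h6.mul_right_eq_zero).mp h5
    have h8 : (s : R) • c i = algebraMap R Rm s.1 * c i := Algebra.smul_def _ _
    rw [h8] at h7
    exact ((IsLocalization.map_units Rm s).mul_right_eq_zero).mp h7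
  exact Module.Projective.of_equiv (LinearEquiv.ofBijective (lin R Rm x) ⟨hinj, hsurj⟩)

end K762.GorCrit
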