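import Groth.Agent.DelIll.K762.CpxLen
import Groth.Agent.DelIll.K762.GorCrit
import Mathlib.RingTheory.LocalRing.ResidueField.Basic
import Mathlib.RingTheory.LocalRing.Quotient
import Mathlib.Algebra.CharP.Frobenius
import Mathlib.Algebra.Order.BigOperators.Group.Finset

/-!
# The algebraic criterion for the local freeness of the Hodge sheaves
-/

set_option autoImplicit false
set_option linter.style.haveILetI false
set_option linter.dupNamespace false
universe u

open scoped TensorProduct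

namespace K762.CRMain

open K776.Intf K762.FreeAt K762.CpxLen

variable {R : Type u} [CommRing R]

/-- Both neighbouring cokernels become free. -/
def Full (C : Cpx R) {A : Type u} [CommRing A] (φ : R →+* A) (j : ℕ) : Prop :=
  (∃ w, FreeAt (W C j) φ w) ∧ ∃ w, FreeAt (W C (j + 1)) φ w

/-- The length at the residue field. -/
noncomputable def h0 (𝔪 : Ideal R) (C : Cpx R) (j : ℕ) : ℕ∞ :=
  Module.length (R ⧸ 𝔪) (C.H (Ideal.Quotient.mk 𝔪) j)

lemma rank_eq {A : Type u} [CommRing A] [IsLocalRing A] (𝔪 : Ideal R) (φ : R →+* A)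
    (h𝔪 : ∀ r ∈ 𝔪, φ r ∈ IsLocalRing.maximalIdeal A) {X : Type u} [AddCommGroup X] [Module R X]
    {w w' : ℕ} (h : FreeAt X φ w) (h' : FreeAt X (Ideal.Quotient.mk 𝔪) w') : w = w' := by
  let ρ : R ⧸ 𝔪 →+* IsLocalRing.ResidueField A :=
    Ideal.Quotient.lift 𝔪 ((IsLocalRing.residue A).comp φ) fun r hr => by
      rw [RingHom.comp_apply, IsLocalRing.residue_eq_zero_iff]
      exact h𝔪 r hr
  have hρ : ρ.comp (Ideal.Quotient.mk 𝔪) = (IsLocalRing.residue A).comp φ :=
    Ideal.Quotient.lift_comp_mk _ _ _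
  have h1 := h.comp (IsLocalRing.residue A)
  have h2 := h'.comp ρ
  rw [hρ] at h2
  exact h1.unique h2

lemma length_self_field (𝔪 : Ideal R) [𝔪.IsMaximal] : Module.length (R ⧸ 𝔪) (R ⧸ 𝔪) = 1 := by
  letI := Ideal.Quotient.field 𝔪
  exact Module.length_eq_one (R ⧸ 𝔪) (R ⧸ 𝔪)

/-- The numerical data at a maximal ideal. -/
lemma exists_data (𝔪 : Ideal R) [𝔪.IsMaximal] (C : Cpx R) (j : ℕ) :
    ∃ (w : ℕ) (x : Fin w → W C j), FreeAt (W C j) (Ideal.Quotient.mk 𝔪) w ∧
      Submodule.span R (Set.range x) ⊔ 𝔪 • (⊤ : Submodule R (W C j)) = ⊤ := by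
  letI := Ideal.Quotient.field 𝔪
  obtain ⟨w, x, h1, h2⟩ := exists_family (W := W C j) (Ideal.Quotient.mk 𝔪)
    Ideal.Quotient.mk_surjective
  rw [Ideal.mk_ker] at h2
  exact ⟨w, x, h1, h2⟩

lemma h0_eq (𝔪 : Ideal R) [𝔪.IsMaximal] (C : Cpx R) (j : ℕ) {w w' r : ℕ}
    (hw : FreeAt (W C j) (Ideal.Quotient.mk 𝔪) w) (hw' : FreeAt (W C (j + 1)) (Ideal.Quotient.mk 𝔪) w')
    (hr : FreeAt (C.P (j + 1)) (Ideal.Quotient.mk 𝔪) r) : h0 𝔪 C j + r = w + w' := by
  have h := len_H C (Ideal.Quotient.mk 𝔪) j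
  rw [hw.len, hw'.len, hr.len, length_self_field, mul_one, mul_one, mul_one] at h
  exact h

lemma arith {L l a b H : ℕ∞} {r w w' : ℕ} (hl : l ≠ ⊤) (h1 : L + r * l = a + b) (ha : a ≤ w * l)
    (hb : b ≤ w' * l) (h2 : H + r = w + w') :
    L ≠ ⊤ ∧ H ≠ ⊤ ∧ L ≤ H * l ∧ (L = H * l → a = w * l ∧ b = w' * l) := by
  have hH : H ≠ ⊤ := by
    rintro rfl
    rw [top_add] at h2
    exact (WithTop.add_ne_top.mpr ⟨ENat.natCast_ne_top w, ENat.natCast_ne_top w'⟩) h2.symm
  have ha' : a ≠ ⊤ := ne_top_of_le_ne_top (WithTop.mul_ne_top (ENat.natCast_ne_top w) hl) ha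
  have hb' : b ≠ ⊤ := ne_top_of_le_ne_top (WithTop.mul_ne_top (ENat.natCast_ne_top w') hl) hb
  have hL : L ≠ ⊤ := by
    rintro rfl
    rw [top_add] at h1
    exact (WithTop.add_ne_top.mpr ⟨ha', hb'⟩) h1.symm
  refine ⟨hL, hH, ?_⟩
  lift L to ℕ using hL
  lift l to ℕ using hl
  lift a to ℕ using ha'
  lift b to ℕ using hb'
  lift H to ℕ using hH
  norm_cast at *
  have h3 : H * l + r * l = w * l + w' * l := by rw [← add_mul, h2, add_mul]
  constructor
  · omega
  · intro h4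
    omega

lemma arith2 {L l a b H : ℕ∞} {r w w' : ℕ} (hl : l ≠ ⊤) (h1 : L + r * l = a + b) (ha : a = w * l)
    (hb : b = w' * l) (h2 : H + r = w + w') : L = H * l := by
  have h := arith hl h1 ha.le hb.le h2
  obtain ⟨hL, hH, -, -⟩ := h
  subst ha
  subst hb
  lift L to ℕ using hL
  lift l to ℕ using hl
  lift H to ℕ using hH
  norm_cast at *
  have h3 : H * l + r * l = w * l + w' * l := by rw [← add_mul, h2, add_mul]
  omega

section

variable {A : Type u} [CommRing A] [IsLocalRing A] [IsArtinianRing A] (𝔪 : Ideal R) [𝔪.IsMaximal]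
  (φ : R →+* A) (h𝔪 : ∀ r ∈ 𝔪, φ r ∈ IsLocalRing.maximalIdeal A) (C : Cpx R) (j : ℕ)

include h𝔪

lemma main_le : Module.length A (C.H φ j) ≠ ⊤ ∧ h0 𝔪 C j ≠ ⊤ ∧
    Module.length A (C.H φ j) ≤ h0 𝔪 C j * Module.length A A ∧
    (Module.length A (C.H φ j) = h0 𝔪 C j * Module.length A A → Full C φ j) := by
  obtain ⟨w, x, hw, hx⟩ := exists_data 𝔪 C j
  obtain ⟨w', x', hw', hx'⟩ := exists_data 𝔪 C (j + 1)
  obtain ⟨r, hr⟩ := freeAt_P C φ (j + 1)
  letI := Ideal.Quotient.field 𝔪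
  obtain ⟨r', hr'⟩ := freeAt_P C (Ideal.Quotient.mk 𝔪) (j + 1)
  have hrr := rank_eq 𝔪 φ h𝔪 hr hr'
  subst hrr
  have h1 := len_H C φ j
  rw [hr.len] at h1
  obtain ⟨g1, g2, g3, g4⟩ := arith (Module.length_ne_top (R := A) (M := A)) h1
    (lw_le 𝔪 x hx φ h𝔪) (lw_le 𝔪 x' hx' φ h𝔪) (h0_eq 𝔪 C j hw hw' hr')
  refine ⟨g1, g2, g3, fun h => ?_⟩
  obtain ⟨e1, e2⟩ := g4 h
  exact ⟨⟨w, freeAt_of_len 𝔪 x hx φ h𝔪 e1⟩, ⟨w', freeAt_of_len 𝔪 x' hx' φ h𝔪 e2⟩⟩

omit [IsArtinianRing A] in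
lemma len_of_full (hF : Full C φ j) {B : Type u} [CommRing B] [IsArtinianRing B]
    (ψ : A →+* B) : Module.length B (C.H (ψ.comp φ) j) = h0 𝔪 C j * Module.length B B := by
  obtain ⟨⟨w, hw⟩, ⟨w', hw'⟩⟩ := hF
  obtain ⟨v, x, hv, hx⟩ := exists_data 𝔪 C j
  obtain ⟨v', x', hv', hx'⟩ := exists_data 𝔪 C (j + 1)
  obtain ⟨r, hr⟩ := freeAt_P C φ (j + 1)
  letI := Ideal.Quotient.field 𝔪
  obtain ⟨r', hr'⟩ := freeAt_P C (Ideal.Quotient.mk 𝔪) (j + 1)
  have hrr := rank_eq 𝔪 φ h𝔪 hr hr'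
  subst hrr
  have hww := rank_eq 𝔪 φ h𝔪 hw hv
  subst hww
  have hww' := rank_eq 𝔪 φ h𝔪 hw' hv'
  subst hww'
  have h1 := len_H C (ψ.comp φ) j
  rw [(hr.comp ψ).len] at h1
  exact arith2 (Module.length_ne_top (R := B) (M := B)) h1 (hw.comp ψ).len (hw'.comp ψ).len
    (h0_eq 𝔪 C j hv hv' hr')

lemma len_of_full' (hF : Full C φ j) :
    Module.length A (C.H φ j) = h0 𝔪 C j * Module.length A A := by
  have h := len_of_full 𝔪 φ h𝔪 C j hF (RingHom.id A)
  rwa [RingHom.id_comp] at h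

end

lemma full_of_maximalIdeal_eq_bot {A : Type u} [CommRing A] [IsLocalRing A]
    (h : IsLocalRing.maximalIdeal A = ⊥) (φ : R →+* A) (C : Cpx R) (j : ℕ) : Full C φ j := by
  have hb : Function.Bijective (IsLocalRing.residue A) := by
    refine ⟨?_, IsLocalRing.residue_surjective⟩
    rw [RingHom.injective_iff_ker_eq_bot, IsLocalRing.ker_residue]
    exact h
  let e := RingEquiv.ofBijective _ hb
  have hcomp : (e.symm : IsLocalRing.ResidueField A →+* A).comp ((IsLocalRing.residue A).comp φ) =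
      φ := by
    ext x
    exact e.symm_apply_apply (φ x)
  have key : ∀ i, ∃ w, FreeAt (W C i) φ w := by
    intro i
    have h1 : ∃ w, FreeAt (W C i) ((IsLocalRing.residue A).comp φ) w :=
      FreeAt.of_free _ (by letI := ((IsLocalRing.residue A).comp φ).toAlgebra; infer_instance)
        (by letI := ((IsLocalRing.residue A).comp φ).toAlgebra; infer_instance)
    obtain ⟨w, hw⟩ := h1
    have h2 := hw.comp (e.symm : IsLocalRing.ResidueField A →+* A)
    rw [hcomp] at h2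
    exact ⟨w, h2⟩
  exact ⟨key j, key (j + 1)⟩

/-- The inequality over all artinian local quotients. -/
def Ineq (p : ℕ) [Fact p.Prime] (C : ℕ → Cpx R) : Prop :=
  ∀ (A : Type u) [CommRing A] [IsLocalRing A] [IsArtinianRing A] [CharP A p] (φ : R →+* A),
      Function.Surjective φ → ∀ n < p,
      ∑ a ∈ Finset.range (n + 1), Module.length A ((C a).H ((frobenius A p).comp φ) (n - a)) ≤
        ∑ a ∈ Finset.range (n + 1), Module.length A ((C a).H φ (n - a))

lemma sum_rigid {n : ℕ} (f g : ℕ → ℕ∞) (hg : ∀ a, g a ≠ ⊤) (hle : ∀ a, f a ≤ g a)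
    (h : ∑ a ∈ Finset.range (n + 1), g a ≤ ∑ a ∈ Finset.range (n + 1), f a) :
    ∀ a ∈ Finset.range (n + 1), f a = g a := by
  have hf : ∀ a, f a ≠ ⊤ := fun a => ne_top_of_le_ne_top (hg a) (hle a)
  choose f' hf' using fun a => ENat.ne_top_iff_exists.mp (hf a)
  choose g' hg' using fun a => ENat.ne_top_iff_exists.mp (hg a)
  have e1 : f = fun a => (f' a : ℕ∞) := funext fun a => (hf' a).symm
  have e2 : g = fun a => (g' a : ℕ∞) := funext fun a => (hg' a).symm
  subst e1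
  subst e2
  have hle' : ∀ a ∈ Finset.range (n + 1), f' a ≤ g' a := fun a _ =>
    ENat.natCast_le_natCast.mp (hle a)
  have h' : ∑ a ∈ Finset.range (n + 1), g' a ≤ ∑ a ∈ Finset.range (n + 1), f' a := by
    simp only at h
    exact_mod_cast h
  have h2 := (Finset.sum_eq_sum_iff_of_le hle').mp (le_antisymm (Finset.sum_le_sum hle') h')
  intro a ha
  exact congrArg (fun t : ℕ => (t : ℕ∞)) (h2 a ha)

lemma full_induction (p : ℕ) [Fact p.Prime] (C : ℕ → Cpx R) (hI : Ineq p C) (𝔪 : Ideal R)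
    [𝔪.IsMaximal] (e : ℕ) :
    ∀ (A : Type u) [CommRing A] [IsLocalRing A] [IsArtinianRing A] [CharP A p] (φ : R →+* A),
      Function.Surjective φ → (∀ r ∈ 𝔪, φ r ∈ IsLocalRing.maximalIdeal A) →
      (∀ x ∈ IsLocalRing.maximalIdeal A, x ^ p ^ e = 0) →
      ∀ a j, a + j < p → Full (C a) φ j := by
  induction e with
  | zero =>
    intro A _ _ _ _ φ _ _ he a j _
    refine full_of_maximalIdeal_eq_bot ?_ φ (C a) j
    rw [eq_bot_iff]
    intro x hx
    have := he x hx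
    rwa [pow_zero, pow_one] at this
  | succ e ih =>
    intro A _ _ _ _ φ hφ h𝔪 he a j haj
    let I : Ideal A := Ideal.span ((fun x => x ^ p ^ e) '' (IsLocalRing.maximalIdeal A : Set A))
    have hIm : I ≤ IsLocalRing.maximalIdeal A := by
      rw [Ideal.span_le]
      rintro _ ⟨x, hx, rfl⟩
      exact Ideal.pow_mem_of_mem _ hx _ (pow_pos (Fact.out : p.Prime).pos _)
    haveI : Nontrivial (A ⧸ I) := Ideal.Quotient.nontrivial_iff.mpr
      (ne_top_of_le_ne_top (IsLocalRing.maximalIdeal.isMaximal A).ne_top hIm)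
    haveI : IsLocalRing (A ⧸ I) :=
      IsLocalRing.of_surjective' (Ideal.Quotient.mk I) Ideal.Quotient.mk_surjective
    haveI : CharP (A ⧸ I) p := by
      rw [CharP.charP_iff_prime_eq_zero (Fact.out : p.Prime)]
      have h1 : (p : A) = 0 := CharP.cast_eq_zero A p
      rw [← map_natCast (Ideal.Quotient.mk I) p, h1, map_zero]
    have hmem : ∀ x : A, x ∈ IsLocalRing.maximalIdeal A →
        Ideal.Quotient.mk I x ∈ IsLocalRing.maximalIdeal (A ⧸ I) := by
      intro x hx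
      rw [IsLocalRing.mem_maximalIdeal, mem_nonunits_iff]
      intro hu
      obtain ⟨y, hy⟩ := hu.exists_right_inv
      obtain ⟨y, rfl⟩ := Ideal.Quotient.mk_surjective y
      rw [← map_mul, ← map_one (Ideal.Quotient.mk I), Ideal.Quotient.eq] at hy
      have h1 : (1 : A) ∈ IsLocalRing.maximalIdeal A := by
        have h2 := sub_mem (Ideal.mul_mem_right y _ hx) (hIm hy)
        rwa [sub_sub_cancel] at h2
      exact (IsLocalRing.maximalIdeal.isMaximal A).ne_top ((Ideal.eq_top_iff_one _).mpr h1)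
    have hmem' : ∀ y ∈ IsLocalRing.maximalIdeal (A ⧸ I),
        ∃ x ∈ IsLocalRing.maximalIdeal A, Ideal.Quotient.mk I x = y := by
      intro y hy
      obtain ⟨x, rfl⟩ := Ideal.Quotient.mk_surjective y
      refine ⟨x, ?_, rfl⟩
      rw [IsLocalRing.mem_maximalIdeal, mem_nonunits_iff] at hy ⊢
      exact fun hu => hy (hu.map _)
    let ψ : A ⧸ I →+* A := Ideal.Quotient.lift I (frobenius A p) fun z hz => by
      have h1 : I ≤ RingHom.ker (frobenius A p) := by
        rw [Ideal.span_le]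
        rintro _ ⟨x, hx, rfl⟩
        change frobenius A p (x ^ p ^ e) = 0
        rw [frobenius_def, ← pow_mul, ← pow_succ]
        exact he x hx
      exact h1 hz
    have hψ : ψ.comp ((Ideal.Quotient.mk I).comp φ) = (frobenius A p).comp φ := by
      have h1 : ψ.comp (Ideal.Quotient.mk I) = frobenius A p := Ideal.Quotient.lift_comp_mk _ _ _
      rw [← RingHom.comp_assoc, h1]
    have hB : ∀ a j, a + j < p → Full (C a) ((Ideal.Quotient.mk I).comp φ) j :=
      ih (A ⧸ I) _ (Ideal.Quotient.mk_surjective.comp hφ) (fun r hr => hmem _ (h𝔪 r hr))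
        (by
          intro y hy
          obtain ⟨x, hx, rfl⟩ := hmem' y hy
          rw [← map_pow]
          exact Ideal.Quotient.eq_zero_iff_mem.mpr (Ideal.subset_span ⟨x, hx, rfl⟩))
    have hlen : ∀ a j, a + j < p → Module.length A ((C a).H ((frobenius A p).comp φ) j) =
        h0 𝔪 (C a) j * Module.length A A := by
      intro a j haj
      have h1 := len_of_full 𝔪 ((Ideal.Quotient.mk I).comp φ) (fun r hr => hmem _ (h𝔪 r hr))
        (C a) j (hB a j haj) ψ
      rwa [hψ] at h1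
    have hn := hI A φ hφ (a + j) haj
    have h1 : ∑ a' ∈ Finset.range (a + j + 1),
        Module.length A ((C a').H ((frobenius A p).comp φ) (a + j - a')) =
        ∑ a' ∈ Finset.range (a + j + 1), h0 𝔪 (C a') (a + j - a') * Module.length A A := by
      refine Finset.sum_congr rfl fun a' ha' => hlen _ _ ?_
      rw [Finset.mem_range] at ha'
      omega
    rw [h1] at hn
    have h2 := sum_rigid (fun a' => Module.length A ((C a').H φ (a + j - a')))
      (fun a' => h0 𝔪 (C a') (a + j - a') * Module.length A A)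
      (fun a' => WithTop.mul_ne_top (main_le 𝔪 φ h𝔪 (C a') (a + j - a')).2.1 Module.length_ne_top)
      (fun a' => (main_le 𝔪 φ h𝔪 (C a') (a + j - a')).2.2.1) hn a
      (by rw [Finset.mem_range]; omega)
    have h3 := (main_le 𝔪 φ h𝔪 (C a) (a + j - a)).2.2.2 h2
    rwa [Nat.add_sub_cancel_left] at h3

/-- Nilpotence in an artinian local ring. -/
lemma exists_pow_eq_zero (p : ℕ) [Fact p.Prime] (A : Type u) [CommRing A] [IsLocalRing A]
    [IsArtinianRing A] : ∃ e : ℕ, ∀ x ∈ IsLocalRing.maximalIdeal A, x ^ p ^ e = 0 := by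
  obtain ⟨n, hn⟩ := (isArtinianRing_iff_isNilpotent_maximalIdeal A).mp inferInstance
  refine ⟨n, fun x hx => ?_⟩
  have h1 : x ^ n = 0 := by
    have := Ideal.pow_mem_pow hx n
    rw [hn] at this
    exact this
  exact pow_eq_zero_of_le (Nat.lt_pow_self (Fact.out : p.Prime).one_lt).le h1

lemma full_of_h0 {A : Type u} [CommRing A] [IsLocalRing A] [IsArtinianRing A] (𝔪 : Ideal R)
    [𝔪.IsMaximal] (φ : R →+* A) (h𝔪 : ∀ r ∈ 𝔪, φ r ∈ IsLocalRing.maximalIdeal A) (C : Cpx R)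
    (j : ℕ) (h : h0 𝔪 C j = 0) : Full C φ j := by
  obtain ⟨-, -, h1, h2⟩ := main_le 𝔪 φ h𝔪 C j
  apply h2
  rw [h, zero_mul] at h1 ⊢
  exact le_antisymm h1 (zero_le)

theorem main : CRStmt.{u} := by
  intro R _ _ p _ _ d hd C hI hS hV a j
  refine projective_H (C a) (RingHom.id R) (fun j => ?_) j
  refine K762.GorCrit.projective_of_gor (W (C a) j) ?_
  intro q hloc hart hinj
  suffices hmain : ∀ a j, Full (C a) (Ideal.Quotient.mk q) j from (hmain a j).1
  clear a j
  let 𝔪 : Ideal R := (IsLocalRing.maximalIdeal (R ⧸ q)).comap (Ideal.Quotient.mk q)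
  haveI h𝔪max : 𝔪.IsMaximal :=
    Ideal.comap_isMaximal_of_surjective _ Ideal.Quotient.mk_surjective
  have h𝔪 : ∀ r ∈ 𝔪, Ideal.Quotient.mk q r ∈ IsLocalRing.maximalIdeal (R ⧸ q) := fun r hr => hr
  haveI : CharP (R ⧸ q) p := by
    rw [CharP.charP_iff_prime_eq_zero (Fact.out : p.Prime)]
    have h1 : (p : R) = 0 := CharP.cast_eq_zero R p
    rw [← map_natCast (Ideal.Quotient.mk q) p, h1, map_zero]
  obtain ⟨e, he⟩ := exists_pow_eq_zero p (R ⧸ q)
  have h1 : ∀ a j, a + j < p → Full (C a) (Ideal.Quotient.mk q) j :=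
    full_induction p C hI 𝔪 e (R ⧸ q) (Ideal.Quotient.mk q) Ideal.Quotient.mk_surjective h𝔪 he
  letI := Ideal.Quotient.field 𝔪
  have h2 : ∀ a j, d < a ∨ d < j → Full (C a) (Ideal.Quotient.mk q) j := by
    intro a j haj
    refine full_of_h0 𝔪 _ h𝔪 (C a) j ?_
    have := hV (R ⧸ 𝔪) (Ideal.Quotient.mk 𝔪) Ideal.Quotient.mk_surjective a j haj
    exact Module.length_eq_zero_iff.mpr this
  have hsymk : ∀ a a' j j' : ℕ, a + a' = d → j + j' = d → h0 𝔪 (C a) j = h0 𝔪 (C a') j' := by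
    intro a a' j j' haa hjj
    refine hS (R ⧸ 𝔪) (Ideal.Quotient.mk 𝔪) Ideal.Quotient.mk_surjective ?_ a a' j j' haa hjj
    refine K762.SelfInj.injective_self (1 : R ⧸ 𝔪) one_ne_zero fun I hI => ?_
    rw [(Ideal.eq_bot_or_top I).resolve_left hI]
    trivial
  have h3 : ∀ a a' j j' : ℕ, a + a' = d → j + j' = d → a' + j' < p →
      Full (C a) (Ideal.Quotient.mk q) j := by
    intro a a' j j' haa hjj hp
    refine (main_le 𝔪 _ h𝔪 (C a) j).2.2.2 ?_
    rw [hS (R ⧸ q) (Ideal.Quotient.mk q) Ideal.Quotient.mk_surjective hinj a a' j j' haa hjj,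
      len_of_full' 𝔪 _ h𝔪 (C a') j' (h1 a' j' hp), hsymk a a' j j' haa hjj]
  have h4 : ∀ a j, a + j ≠ p → Full (C a) (Ideal.Quotient.mk q) j := by
    intro a j haj
    by_cases hlt : a + j < p
    · exact h1 a j hlt
    by_cases hda : d < a ∨ d < j
    · exact h2 a j hda
    push Not at hda
    exact h3 a (d - a) j (d - j) (by omega) (by omega) (by omega)
  intro a j
  by_cases haj : a + j = p
  · refine ⟨?_, (h4 a (j + 1) (by omega)).1⟩
    cases j with
    | zero => exact freeAt_W_zero (C a) (Ideal.Quotient.mk q)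
    | succ j => exact (h4 a j (by omega)).2
  · exact h4 a j haj

end K762.CRMain
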