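import Mathlib.RingTheory.Length
import Mathlib.RingTheory.Artinian.Ring
import Mathlib.RingTheory.Artinian.Module
import Mathlib.RingTheory.HopkinsLevitzki
import Mathlib.RingTheory.Nakayama
import Mathlib.RingTheory.LocalRing.MaximalIdeal.Basic
import Mathlib.RingTheory.TensorProduct.Basic
import Mathlib.LinearAlgebra.TensorProduct.Tower
import Mathlib.LinearAlgebra.TensorProduct.Pi
import Mathlib.LinearAlgebra.TensorProduct.RightExactness
import Mathlib.LinearAlgebra.Dimension.Free
import Mathlib.RingTheory.Flat.Basic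

/-!
# Base change of a finite module: freeness and length
-/

set_option autoImplicit false
set_option linter.style.haveILetI false
set_option linter.dupNamespace false
universe u

open scoped TensorProduct

namespace K762.FreeAt

variable {R : Type u} [CommRing R]

/-- `A ⊗ W` is free of rank `w`. -/
def FreeAt {A : Type u} [CommRing A] (W : Type u) [AddCommGroup W] [Module R W] (φ : R →+* A)
    (w : ℕ) : Prop :=
  letI := φ.toAlgebra
  Nonempty ((A ⊗[R] W) ≃ₗ[A] (Fin w → A))

/-- The length of `A ⊗ W`. -/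
noncomputable def LW {A : Type u} [CommRing A] (W : Type u) [AddCommGroup W] [Module R W]
    (φ : R →+* A) : ℕ∞ :=
  letI := φ.toAlgebra
  Module.length A (A ⊗[R] W)

variable {A B : Type u} [CommRing A] [CommRing B] {W : Type u} [AddCommGroup W] [Module R W]

lemma FreeAt.comp {φ : R →+* A} {w : ℕ} (h : FreeAt W φ w) (ψ : A →+* B) :
    FreeAt W (ψ.comp φ) w := by
  letI := φ.toAlgebra
  letI := ψ.toAlgebra
  letI := (ψ.comp φ).toAlgebra
  haveI : IsScalarTower R A B := IsScalarTower.of_algebraMap_eq' rfl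
  obtain ⟨e⟩ := h
  exact ⟨(TensorProduct.AlgebraTensorModule.cancelBaseChange R A B B W).symm ≪≫ₗ
    (TensorProduct.AlgebraTensorModule.congr (LinearEquiv.refl B B) e) ≪≫ₗ
    (TensorProduct.piScalarRight A B B (Fin w))⟩

lemma FreeAt.len {φ : R →+* A} {w : ℕ} (h : FreeAt W φ w) :
    LW W φ = w * Module.length A A := by
  letI := φ.toAlgebra
  obtain ⟨e⟩ := h
  change Module.length A (A ⊗[R] W) = _
  rw [e.length_eq, Module.length_pi_of_fintype]
  simp

lemma FreeAt.unique [Nontrivial A] {φ : R →+* A} {w w' : ℕ} (h : FreeAt W φ w)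
    (h' : FreeAt W φ w') : w = w' := by
  letI := φ.toAlgebra
  obtain ⟨e⟩ := h
  obtain ⟨e'⟩ := h'
  have := LinearEquiv.finrank_eq (e.symm ≪≫ₗ e')
  simpa using this

lemma FreeAt.of_free (φ : R →+* A) [Nontrivial A] (h : letI := φ.toAlgebra; Module.Free A (A ⊗[R] W))
    (h' : letI := φ.toAlgebra; Module.Finite A (A ⊗[R] W)) : ∃ w, FreeAt W φ w := by
  letI := φ.toAlgebra
  exact ⟨_, ⟨(Module.finBasis A (A ⊗[R] W)).equivFun⟩⟩

variable (R A) in
/-- The map `A^w → A ⊗ W` of a family of elements. -/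
noncomputable def lin [Algebra R A] {w : ℕ} (x : Fin w → W) : (Fin w → A) →ₗ[A] A ⊗[R] W :=
  Fintype.linearCombination A (fun i => (1 : A) ⊗ₜ[R] x i)

/-- The kernel of `W → A ⊗ W`. -/
lemma mem_smul_of_tmul_eq_zero [Algebra R A] (h : Function.Surjective (algebraMap R A)) (y : W)
    (hy : (1 : A) ⊗ₜ[R] y = 0) : y ∈ (RingHom.ker (algebraMap R A)) • (⊤ : Submodule R W) := by
  have hs : Function.Surjective (Algebra.linearMap R A) := h
  let e : (R ⧸ LinearMap.ker (Algebra.linearMap R A)) ≃ₗ[R] A :=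
    LinearMap.quotKerEquivOfSurjective (Algebra.linearMap R A) hs
  have h1 : (LinearEquiv.rTensor W e) ((1 : R ⧸ LinearMap.ker (Algebra.linearMap R A)) ⊗ₜ[R] y) =
      (1 : A) ⊗ₜ[R] y := by
    rw [LinearEquiv.rTensor_tmul]
    congr 1
    change e (Submodule.Quotient.mk (1 : R)) = 1
    rw [LinearMap.quotKerEquivOfSurjective_apply_mk]
    exact map_one (algebraMap R A)
  rw [hy] at h1
  have h2 := (LinearEquiv.rTensor W e).map_eq_zero_iff.mp h1
  have h3 : y ∈ LinearMap.ker
      (TensorProduct.mk R (R ⧸ LinearMap.ker (Algebra.linearMap R A)) W 1) := h2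
  rw [LinearMap.ker_tensorProductMk] at h3
  exact h3

/-- Lifting a basis from the residue field. -/
lemma exists_family [Module.Finite R W] {k : Type u} [Field k] (φ : R →+* k)
    (hφ : Function.Surjective φ) :
    ∃ (w : ℕ) (x : Fin w → W), FreeAt W φ w ∧
      Submodule.span R (Set.range x) ⊔ (RingHom.ker φ) • (⊤ : Submodule R W) = ⊤ := by
  letI := φ.toAlgebra
  let b := Module.finBasis k (k ⊗[R] W)
  have hs := TensorProduct.mk_surjective (R := R) (S := k) W hφ
  choose x hx using fun i => hs (b i)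
  refine ⟨_, x, ⟨b.equivFun⟩, ?_⟩
  rw [eq_top_iff]
  intro y _
  choose r hr using fun i => hφ (b.repr ((1 : k) ⊗ₜ[R] y) i)
  have h1 : (1 : k) ⊗ₜ[R] (y - ∑ i, r i • x i) = 0 := by
    rw [TensorProduct.tmul_sub, TensorProduct.tmul_sum, sub_eq_zero]
    conv_lhs => rw [← b.sum_repr ((1 : k) ⊗ₜ[R] y)]
    refine Finset.sum_congr rfl fun i _ => ?_
    rw [TensorProduct.tmul_smul, ← hr i]
    have h2 : (1 : k) ⊗ₜ[R] x i = b i := hx i
    rw [h2]
    exact (algebraMap_smul k (r i) (b i))
  have h2 := mem_smul_of_tmul_eq_zero (A := k) hφ _ h1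
  have h3 : y = (∑ i, r i • x i) + (y - ∑ i, r i • x i) := by abel
  rw [h3]
  refine Submodule.add_mem_sup ?_ h2
  exact Submodule.sum_mem _ fun i _ => Submodule.smul_mem _ _ (Submodule.subset_span ⟨i, rfl⟩)

/-- Nakayama. -/
lemma lin_surjective [Module.Finite R W] (𝔪 : Ideal R) {w : ℕ} (x : Fin w → W)
    (hx : Submodule.span R (Set.range x) ⊔ 𝔪 • (⊤ : Submodule R W) = ⊤) [IsLocalRing A]
    [Algebra R A] (h𝔪 : ∀ r ∈ 𝔪, algebraMap R A r ∈ IsLocalRing.maximalIdeal A) :
    Function.Surjective (lin R A x) := by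
  rw [← LinearMap.range_eq_top, eq_top_iff]
  refine Submodule.le_of_le_smul_of_le_jacobson_bot (I := IsLocalRing.maximalIdeal A)
    (Module.Finite.fg_top) (IsLocalRing.maximalIdeal_le_jacobson ⊥) ?_
  rintro z -
  induction z using TensorProduct.induction_on with
  | zero => exact zero_mem _
  | add a b ha hb => exact add_mem ha hb
  | tmul a y =>
    have hy : y ∈ Submodule.span R (Set.range x) ⊔ 𝔪 • (⊤ : Submodule R W) := by
      rw [hx]; trivial
    obtain ⟨s, hs, t, ht, rfl⟩ := Submodule.mem_sup.mp hy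
    rw [TensorProduct.tmul_add]
    refine Submodule.add_mem_sup ?_ ?_
    · clear hy
      induction hs using Submodule.span_induction with
      | mem v hv =>
        obtain ⟨i, rfl⟩ := hv
        refine ⟨Pi.single i a, ?_⟩
        rw [lin, Fintype.linearCombination_apply_single, TensorProduct.smul_tmul', smul_eq_mul,
          mul_one]
      | zero => rw [TensorProduct.tmul_zero]; exact zero_mem _
      | add u v _ _ hu hv => rw [TensorProduct.tmul_add]; exact add_mem hu hv
      | smul c v _ hv =>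
        rw [TensorProduct.tmul_smul]
        have := Submodule.smul_mem (LinearMap.range (lin R A x)) (algebraMap R A c) hv
        rwa [algebraMap_smul] at this
    · clear hy
      induction ht using Submodule.smul_induction_on' with
      | smul c hc v _ =>
        rw [TensorProduct.tmul_smul, ← algebraMap_smul A c (a ⊗ₜ[R] v)]
        exact Submodule.smul_mem_smul (h𝔪 c hc) trivial
      | add u _ v _ hu hv => rw [TensorProduct.tmul_add]; exact add_mem hu hv

lemma lw_le [Module.Finite R W] (𝔪 : Ideal R) {w : ℕ} (x : Fin w → W)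
    (hx : Submodule.span R (Set.range x) ⊔ 𝔪 • (⊤ : Submodule R W) = ⊤) [IsLocalRing A]
    (φ : R →+* A) (h𝔪 : ∀ r ∈ 𝔪, φ r ∈ IsLocalRing.maximalIdeal A) :
    LW W φ ≤ w * Module.length A A := by
  letI := φ.toAlgebra
  have h := Module.length_le_of_surjective _ (lin_surjective (A := A) 𝔪 x hx h𝔪)
  rw [Module.length_pi_of_fintype] at h
  simp only [Finset.sum_const, Finset.card_univ, Fintype.card_fin, nsmul_eq_mul] at h
  exact h

lemma lin_injective_of_len [Module.Finite R W] (𝔪 : Ideal R) {w : ℕ} (x : Fin w → W)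
    (hx : Submodule.span R (Set.range x) ⊔ 𝔪 • (⊤ : Submodule R W) = ⊤) [IsLocalRing A]
    [IsArtinianRing A]
    [Algebra R A] (h𝔪 : ∀ r ∈ 𝔪, algebraMap R A r ∈ IsLocalRing.maximalIdeal A)
    (hl : Module.length A (A ⊗[R] W) = w * Module.length A A) :
    Function.Injective (lin R A x) := by
  have hs := lin_surjective (A := A) 𝔪 x hx h𝔪
  have h1 := Module.length_eq_add_of_exact (LinearMap.ker (lin R A x)).subtype
    (lin R A x) (Submodule.subtype_injective _) hs (LinearMap.exact_subtype_ker_map _)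
  rw [hl, Module.length_pi_of_fintype] at h1
  have h2 : Module.length A A ≠ ⊤ := Module.length_ne_top
  simp only [Finset.sum_const, Finset.card_univ, Fintype.card_fin, nsmul_eq_mul] at h1
  have h3 : (w : ℕ∞) * Module.length A A ≠ ⊤ := WithTop.mul_ne_top (ENat.natCast_ne_top w) h2
  have h4 : Module.length A (LinearMap.ker (lin R A x)) = 0 := by
    generalize Module.length A (LinearMap.ker (lin R A x)) = z at h1
    generalize (w : ℕ∞) * Module.length A A = v at h1 h3
    have hz : z ≠ ⊤ := by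
      rintro rfl
      rw [top_add] at h1
      exact h3 h1
    lift z to ℕ using hz
    lift v to ℕ using h3
    norm_cast at h1 ⊢
    omega
  rw [Module.length_eq_zero_iff] at h4
  rw [← LinearMap.ker_eq_bot]
  exact (Submodule.subsingleton_iff_eq_bot).mp h4

lemma freeAt_of_len [Module.Finite R W] (𝔪 : Ideal R) {w : ℕ} (x : Fin w → W)
    (hx : Submodule.span R (Set.range x) ⊔ 𝔪 • (⊤ : Submodule R W) = ⊤) [IsLocalRing A]
    [IsArtinianRing A]
    (φ : R →+* A) (h𝔪 : ∀ r ∈ 𝔪, φ r ∈ IsLocalRing.maximalIdeal A)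
    (hl : LW W φ = w * Module.length A A) : FreeAt W φ w := by
  letI := φ.toAlgebra
  exact ⟨(LinearEquiv.ofBijective (lin R A x)
    ⟨lin_injective_of_len (A := A) 𝔪 x hx h𝔪 hl, lin_surjective (A := A) 𝔪 x hx h𝔪⟩).symm⟩

end K762.FreeAt
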