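import Groth.Agent.DelIll.K776.Intf
import Groth.Agent.DelIll.K762.FreeAt
import Mathlib.Algebra.Module.Projective
import Mathlib.RingTheory.Finiteness.Cardinality

/-!
# The cohomology of the base change of a complex through the cokernels of the differentials
-/

set_option autoImplicit false
set_option linter.style.haveILetI false
set_option linter.dupNamespace false
universe u

open scoped TensorProduct

namespace K762.CpxLen

open K776.Intf K762.FreeAt

section Gen

variable {S M N Q : Type*} [CommRing S] [AddCommGroup M] [AddCommGroup N] [AddCommGroup Q]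
  [Module S M] [Module S N] [Module S Q]

/-- The map from the cocycles to the kernel of the induced differential. -/
noncomputable def toKer (f : M →ₗ[S] N) (q : M →ₗ[S] Q) (δ : Q →ₗ[S] N)
    (hδ : ∀ x, δ (q x) = f x) : ↥(LinearMap.ker f) →ₗ[S] ↥(LinearMap.ker δ) :=
  (q ∘ₗ (LinearMap.ker f).subtype).codRestrict _ fun x => by
    have hx : f x.1 = 0 := x.2
    rw [LinearMap.mem_ker]
    change δ (q x.1) = 0
    rw [hδ, hx]

lemma toKer_surjective (f : M →ₗ[S] N) (q : M →ₗ[S] Q) (hq : Function.Surjective q)
    (δ : Q →ₗ[S] N) (hδ : ∀ x, δ (q x) = f x) : Function.Surjective (toKer f q δ hδ) := by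
  rintro ⟨y, hy⟩
  obtain ⟨x, rfl⟩ := hq y
  refine ⟨⟨x, ?_⟩, rfl⟩
  rw [LinearMap.mem_ker] at hy ⊢
  rw [← hδ]
  exact hy

lemma ker_toKer (B : Submodule S M) (f : M →ₗ[S] N) (q : M →ₗ[S] Q) (hB : LinearMap.ker q = B)
    (δ : Q →ₗ[S] N) (hδ : ∀ x, δ (q x) = f x) :
    LinearMap.ker (toKer f q δ hδ) = B.submoduleOf (LinearMap.ker f) := by
  ext x
  rw [← hB]
  constructor
  · intro h
    exact congrArg Subtype.val h
  · intro h
    exact Subtype.ext h

/-- The subquotient as a kernel. -/
noncomputable def hqEquiv (B : Submodule S M) (f : M →ₗ[S] N) (q : M →ₗ[S] Q)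
    (hq : Function.Surjective q) (hB : LinearMap.ker q = B) (δ : Q →ₗ[S] N)
    (hδ : ∀ x, δ (q x) = f x) : Hq B f ≃ₗ[S] ↥(LinearMap.ker δ) :=
  (Submodule.quotEquivOfEq (B.submoduleOf (LinearMap.ker f)) (LinearMap.ker (toKer f q δ hδ))
    (ker_toKer B f q hB δ hδ).symm).trans
    (LinearMap.quotKerEquivOfSurjective (toKer f q δ hδ) (toKer_surjective f q hq δ hδ))

lemma length_ker_add_range {S : Type*} [CommRing S] {M N : Type*} [AddCommGroup M]
    [AddCommGroup N] [Module S M] [Module S N] (f : M →ₗ[S] N) :
    Module.length S M = Module.length S (LinearMap.ker f) + Module.length S (LinearMap.range f) := by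
  have h : Function.Exact (LinearMap.ker f).subtype f.rangeRestrict := by
    rw [LinearMap.exact_iff, Submodule.range_subtype]
    exact LinearMap.ker_rangeRestrict _
  exact Module.length_eq_add_of_exact _ _ (Submodule.subtype_injective _)
    (LinearMap.surjective_rangeRestrict _) h

lemma length_range_add {S : Type*} [CommRing S] {M N Q : Type*} [AddCommGroup M]
    [AddCommGroup N] [AddCommGroup Q] [Module S M] [Module S N] [Module S Q] (f : M →ₗ[S] N)
    (g : N →ₗ[S] Q) (h : Function.Exact f g) (hg : Function.Surjective g) :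
    Module.length S N = Module.length S (LinearMap.range f) + Module.length S Q := by
  have h' : Function.Exact (LinearMap.range f).subtype g := by
    rw [LinearMap.exact_iff, Submodule.range_subtype]
    exact LinearMap.exact_iff.mp h
  exact Module.length_eq_add_of_exact _ _ (Submodule.subtype_injective _) hg h'

lemma length_hq {T : Type*} [AddCommGroup T] [Module S T]
    (B : Submodule S M) (f : M →ₗ[S] N) (q : M →ₗ[S] Q)
    (hq : Function.Surjective q) (hB : LinearMap.ker q = B) (δ : Q →ₗ[S] N)
    (hδ : ∀ x, δ (q x) = f x) (q' : N →ₗ[S] T) (hq' : Function.Surjective q')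
    (hex : Function.Exact δ q') : Module.length S (Hq B f) + Module.length S N =
      Module.length S Q + Module.length S T := by
  rw [(hqEquiv B f q hq hB δ hδ).length_eq, length_ker_add_range δ,
    length_range_add δ q' hex hq']
  ring

lemma projective_ker {S : Type*} [CommRing S] {M N : Type*} [AddCommGroup M] [AddCommGroup N]
    [Module S M] [Module S N] [Module.Projective S M] [Module.Projective S N] (f : M →ₗ[S] N)
    (hf : Function.Surjective f) : Module.Projective S (LinearMap.ker f) := by
  obtain ⟨s, hs⟩ := Module.projective_lifting_property f LinearMap.id hf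
  have hs' : ∀ y, f (s y) = y := fun y => congrArg (fun t => t y) hs
  let p : M →ₗ[S] LinearMap.ker f := (LinearMap.id - s ∘ₗ f).codRestrict _ fun x => by
    rw [LinearMap.mem_ker]
    simp [hs']
  refine Module.Projective.of_split (LinearMap.ker f).subtype p ?_
  ext x
  have hx : f x.1 = 0 := x.2
  simp [p, hx]

lemma projective_hq {T : Type*} [AddCommGroup T] [Module S T]
    (B : Submodule S M) (f : M →ₗ[S] N) (q : M →ₗ[S] Q)
    (hq : Function.Surjective q) (hB : LinearMap.ker q = B) (δ : Q →ₗ[S] N)
    (hδ : ∀ x, δ (q x) = f x) (q' : N →ₗ[S] T) (hq' : Function.Surjective q')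
    (hex : Function.Exact δ q') [Module.Projective S N] [Module.Projective S Q]
    [Module.Projective S T] : Module.Projective S (Hq B f) := by
  haveI h1 : Module.Projective S (LinearMap.ker q') := projective_ker q' hq'
  let g : Q →ₗ[S] LinearMap.ker q' := δ.codRestrict _ fun x => by
    rw [LinearMap.mem_ker]
    exact (hex _).mpr ⟨x, rfl⟩
  have hg : Function.Surjective g := by
    rintro ⟨y, hy⟩
    obtain ⟨x, rfl⟩ := (hex y).mp hy
    exact ⟨x, rfl⟩
  have h2 : Module.Projective S (LinearMap.ker g) := projective_ker g hg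
  have h3 : LinearMap.ker g = LinearMap.ker δ := LinearMap.ker_codRestrict _ _ _
  rw [h3] at h2
  exact Module.Projective.of_equiv (hqEquiv B f q hq hB δ hδ).symm

end Gen

variable {R : Type u} [CommRing R] (C : Cpx R)

/-- The boundaries. -/
def bdR : ∀ j : ℕ, Submodule R (C.P j)
  | 0 => ⊥
  | j + 1 => LinearMap.range (C.d j)

/-- The cokernels of the differentials. -/
abbrev W (j : ℕ) : Type u := C.P j ⧸ bdR C j

lemma bdR_le (j : ℕ) : bdR C j ≤ LinearMap.ker (C.d j) := by
  cases j with
  | zero => exact bot_le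
  | succ j =>
    rintro _ ⟨x, rfl⟩
    exact C.dd j x

/-- The induced differential on the cokernel. -/
def δ (j : ℕ) : W C j →ₗ[R] C.P (j + 1) := (bdR C j).liftQ (C.d j) (bdR_le C j)

lemma δ_mk (j : ℕ) (x : C.P j) : δ C j ((bdR C j).mkQ x) = C.d j x := rfl

lemma exact_δ (j : ℕ) : Function.Exact (δ C j) (bdR C (j + 1)).mkQ := by
  rw [LinearMap.exact_iff, Submodule.ker_mkQ, δ, Submodule.range_liftQ]
  rfl

instance finW (j : ℕ) : Module.Finite R (W C j) := by
  haveI := C.fin j
  infer_instance

section

variable (A : Type u) [CommRing A] [Algebra R A]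

/-- The projection to the cokernel after base change. -/
noncomputable def qA (j : ℕ) : A ⊗[R] C.P j →ₗ[A] A ⊗[R] W C j := (bdR C j).mkQ.baseChange A

lemma qA_surjective (j : ℕ) : Function.Surjective (qA C A j) :=
  LinearMap.lTensor_surjective A (Submodule.mkQ_surjective _)

lemma ker_qA (j : ℕ) : LinearMap.ker (qA C A j) = C.bd A j := by
  cases j with
  | zero =>
    have hb : Function.Bijective (bdR C 0).mkQ := by
      refine ⟨?_, Submodule.mkQ_surjective _⟩
      rw [← LinearMap.ker_eq_bot, Submodule.ker_mkQ]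
      rfl
    let e := LinearEquiv.ofBijective _ hb
    have hinj : Function.Injective (qA C A 0) := by
      intro a b hab
      have h1 : (LinearEquiv.lTensor A e) a = (LinearEquiv.lTensor A e) b := hab
      exact (LinearEquiv.lTensor A e).injective h1
    exact LinearMap.ker_eq_bot.mpr hinj
  | succ j =>
    have h1 : Function.Exact (C.d j) (bdR C (j + 1)).mkQ := by
      rw [LinearMap.exact_iff, Submodule.ker_mkQ]
      rfl
    have h2 := lTensor_exact A h1 (Submodule.mkQ_surjective _)
    ext x
    exact h2 x

/-- The base change of the induced differential. -/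
noncomputable def δA (j : ℕ) : A ⊗[R] W C j →ₗ[A] A ⊗[R] C.P (j + 1) := (δ C j).baseChange A

lemma δA_qA (j : ℕ) (x : A ⊗[R] C.P j) :
    δA C A j (qA C A j x) = (C.d j).baseChange A x := by
  have h : δ C j ∘ₗ (bdR C j).mkQ = C.d j := by
    ext x
    rfl
  have h2 : (δA C A j) ∘ₗ (qA C A j) = (C.d j).baseChange A := by
    rw [δA, qA, ← LinearMap.baseChange_comp, h]
  exact congrArg (fun t => t x) h2

lemma exact_δA (j : ℕ) : Function.Exact (δA C A j) (qA C A (j + 1)) :=
  lTensor_exact A (exact_δ C j) (Submodule.mkQ_surjective _)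

/-- The cohomology is the kernel of the induced differential. -/
noncomputable def equivKer (j : ℕ) : C.HA A j ≃ₗ[A] ↥(LinearMap.ker (δA C A j)) :=
  hqEquiv (C.bd A j) ((C.d j).baseChange A) (qA C A j) (qA_surjective C A j) (ker_qA C A j)
    (δA C A j) (δA_qA C A j)

theorem len (j : ℕ) : Module.length A (C.HA A j) + Module.length A (A ⊗[R] C.P (j + 1)) =
    Module.length A (A ⊗[R] W C j) + Module.length A (A ⊗[R] W C (j + 1)) :=
  length_hq (C.bd A j) ((C.d j).baseChange A) (qA C A j) (qA_surjective C A j) (ker_qA C A j)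
    (δA C A j) (δA_qA C A j) (qA C A (j + 1)) (qA_surjective C A (j + 1)) (exact_δA C A j)

end

theorem projective_HA (A : Type u) [CommRing A] [Algebra R A]
    (h : ∀ j, Module.Projective R (W C j)) (j : ℕ) : Module.Projective A (C.HA A j) := by
  haveI := h
  haveI := C.proj
  exact projective_hq (C.bd A j) ((C.d j).baseChange A) (qA C A j) (qA_surjective C A j)
    (ker_qA C A j) (δA C A j) (δA_qA C A j) (qA C A (j + 1)) (qA_surjective C A (j + 1))
    (exact_δA C A j)

/-- The length formula along a ring homomorphism. -/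
theorem len_H {A : Type u} [CommRing A] (φ : R →+* A) (j : ℕ) :
    Module.length A (C.H φ j) + LW (C.P (j + 1)) φ = LW (W C j) φ + LW (W C (j + 1)) φ := by
  letI := φ.toAlgebra
  exact len C A j

theorem projective_H {A : Type u} [CommRing A] (φ : R →+* A)
    (h : ∀ j, Module.Projective R (W C j)) (j : ℕ) : Module.Projective A (C.H φ j) := by
  letI := φ.toAlgebra
  exact projective_HA C A h j

/-- Freeness of the terms at a local ring. -/
lemma freeAt_P {A : Type u} [CommRing A] [IsLocalRing A] (φ : R →+* A) (j : ℕ) :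
    ∃ w, FreeAt (C.P j) φ w := by
  haveI := C.proj j
  haveI := C.fin j
  letI := φ.toAlgebra
  refine FreeAt.of_free φ ?_ ?_
  · exact Module.free_of_flat_of_isLocalRing
  · infer_instance

lemma freeAt_W_zero {A : Type u} [CommRing A] [IsLocalRing A] (φ : R →+* A) :
    ∃ w, FreeAt (W C 0) φ w := by
  obtain ⟨w, hw⟩ := freeAt_P C φ 0
  letI := φ.toAlgebra
  obtain ⟨e⟩ := hw
  have hb : Function.Bijective (qA C A 0) := by
    refine ⟨?_, qA_surjective C A 0⟩
    rw [← LinearMap.ker_eq_bot, ker_qA]
    rfl
  exact ⟨w, ⟨(LinearEquiv.ofBijective _ hb).symm ≪≫ₗ e⟩⟩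

end K762.CpxLen
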